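/-!
Words for generating triples of M23: `wx`, `wy` are words in the three generators of `AutCert.m23Gens`
(products read from the left), `wc`, `wd`, `we` give these generators back as words in `x` and `y`.
-/

set_option autoImplicit false

namespace Cfsg.Agent.M23Triples

/-- A generating triple. -/
structure Row where
  /-- The order of `x`. -/
  p : Nat
  /-- The order of `y`. -/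
  q : Nat
  /-- The order of `x * y`. -/
  r : Nat
  /-- The word of `x`. -/
  wx : List Nat
  /-- The word of `y`. -/
  wy : List Nat
  /-- The first generator in `x`, `y`. -/
  wc : List Nat
  /-- The second generator in `x`, `y`. -/
  wd : List Nat
  /-- The third generator in `x`, `y`. -/
  we : List Nat

/-- The triples. -/
def rows : List Row := [
  { p := 2, q := 5, r := 11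
    wx := [2,0,2,2,0,2,0,2,2,2]
    wy := [0,1,1,0,1,0,2,1,0,1,1,0,1,2,1,0]
    wc := [1,1,0,1,1,1,1,0,1,1,0,1,0,1,1,1,0,1,1,1,1,0,1,0,1,1,1,0,1,1,1,0,1,0,1]
    wd := [0,1,1,1,0,1,0,1,1,0,1,1,0,1,1,1,1,0,1,0,1,0,1,0,1,0,1,1,1,1,0,1,1,1]
    we := [1,0,1,1,1,0,1,1,0,1,1,0,1,1,1,1,0,1,1,1,1,0,1,1,1,0,1,0,1,0,1,0,1,1,1] },
  { p := 2, q := 5, r := 23
    wx := [2,0,2,2,0,2,0,2,2,2]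
    wy := [2,1,0,1,0,0,0,2,0,2,2,1,0,1,2,1]
    wc := [1,1,1,1,0,1,1,0,1,0,1,0,1,1,0,1,1,0,1,0,1,1,0,1,1,0,1,0,1,1]
    wd := [0,1,1,0,1,0,1,1,0,1,1,1,0,1,0,1,1,1,0,1,0,1,1,1,0,1,1,1,1,0,1,1,0]
    we := [1,0,1,1,1,0,1,1,0,1,0,1,0,1,0,1,1,0,1,1,0,1,0,1,1,1,1,0,1,1,0,1,0,1,1,0,1] },
  { p := 2, q := 7, r := 7
    wx := [2,2,2,2,1,0,2,0,1,2,0,0,0,0,0]
    wy := [2,2,2,1,2,0,1,0,0,2,1,0,0,0,0]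
    wc := [1,1,1,0,1,1,1,0,1,1,0,1,1,1,1,0,1,1,0]
    wd := [1,0,1,1,1,1,1,1,0,1,0,1,0,1,1,0,1,1,0,1,1,0,1,0,1,1,0,1,0,1,1,1,0]
    we := [1,0,1,1,0,1,0,1,1,1,1,1,0,1,1,1,0,1,0,1,1,1,0,1,0,1,0,1,1,1,0,1,1,1] },
  { p := 2, q := 7, r := 11
    wx := [2,0,1,1,0,2,0,0,2,0,0,2,0,2,2,1,0]
    wy := [2,2,0,2,0,2,2,2,2,0,2,2,1,1,0,0]
    wc := [1,1,0,1,1,1,1,0,1,0,1,1,0,1,1,1,1,0,1,1,1,1,1,0,1,0,1,0,1,1,1,0]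
    wd := [1,0,1,0,1,1,0,1,1,0,1,1,0,1,1,1,1,0,1,1,1,0,1,1,1,0,1,1,1,1,1,1,0,1]
    we := [1,1,0,1,0,1,1,0,1,1,0,1,1,1,0,1,1,1,0,1,0,1,1,1,0,1,1,1,1,1,0,1,0,1] },
  { p := 2, q := 7, r := 23
    wx := [0,1,2,0,2,2,1,2,0,2,1,0,2,1,1,0,1,0]
    wy := [1,2,1,0,0,2,0,2,0,0,0,2,0,0,2,0]
    wc := [0,1,0,1,1,0,1,0,1,1,1,0,1,1,0,1,1,1,1,1,0,1,1,1,1,0,1]
    wd := [1,1,0,1,1,1,1,1,1,0,1,0,1,1,1,0,1,1,1,1,1,1,0,1,1,0,1,1,1,1,1,1,0]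
    we := [1,1,1,0,1,1,1,0,1,1,1,1,0,1,1,0,1,0,1,1,1,1,0,1,0,1,1,1,1,0,1,1,1] },
  { p := 2, q := 11, r := 11
    wx := [0,2,2,2,1,2,0,2,0,2,2,2,1,1,0,1,1,0]
    wy := [2,2,0,0,2,2,1,0,2,2,0,2,0,1,0,1,0]
    wc := [1,0,1,1,0,1,1,0,1,1,0,1,1,0,1,1,1,1,0,1,1,1,1,0,1,1,0,1]
    wd := [1,1,1,1,1,0,1,1,1,1,0,1,1,1,1,1,0,1,1,1,0,1,1,0,1,0,1,0,1,1,1]
    we := [1,0,1,1,1,0,1,0,1,0,1,1,1,1,1,1,0,1,1,1,0,1,1,1,1,1,0,1,1] },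
  { p := 2, q := 11, r := 23
    wx := [0,2,0,0,2,1,0,1,0,0,2,0,0,2,0]
    wy := [2,2,2,0,2,0,2,0,0,2,1,0,0,2,2]
    wc := [0,1,0,1,1,1,0,1,1,1,1,1,1,0,1,1,1,1,1,1,1,0,1,0,1,0]
    wd := [1,0,1,0,1,1,0,1,0,1,1,1,1,1,1,1,1,1,0,1,1,1,1,0,1,0,1,1,0,1,0,1,0]
    we := [1,1,1,1,0,1,1,1,1,1,0,1,0,1,1,1,1,1,0,1,0,1,1,1,0,1,1,1,1,1,1] },
  { p := 2, q := 23, r := 23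
    wx := [1,0,1,0,2,2,2,0,1,2,0,2,0,1,2,2]
    wy := [0,1,2,0,2,1,0,2,0,0,2,2,1,1]
    wc := [1,1,0,1,1,1,1,1,1,0,1,1,1,1,1,0,1,0,1,0,1,1,0,1,1,0,1,0,1,1,1,1,1,1]
    wd := [1,1,0,1,0,1,1,1,1,1,1,0,1,1,1,0,1,1,0,1,1,0,1,1,1,1,1,1,0,1,0,1]
    we := [0,1,1,1,0,1,0,1,1,1,1,0,1,0,1,1,0,1,1,0,1,0,1,0,1,1,1,1,0] },
  { p := 3, q := 3, r := 11
    wx := [2,1,2,2,0,1,0,2,1,0,2,2,0,0,0,2,0]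
    wy := [1,0,1,2,1,2,0,2,2,1,0,0,2,0,2,0,1,1]
    wc := [1,1,0,1,0,0,1,0,1,0,1,1,0,1,0,1,0,1,0,0,1,0,1,0,1,0,1,1,0]
    wd := [1,1,0,1,0,0,1,0,0,1,1,0,0,1,1,0,1,1,0,0,1,1,0,1,0,0,1,0,1,0]
    we := [0,1,1,0,0,1,0,1,1,0,0,1,0,1,0,1,0,1,0,1,1,0,0,1,0,1,0,1,0,1,0,0,1] },
  { p := 3, q := 3, r := 23
    wx := [1,0,0,0,2,1,0,2,0,2,1,1,0,1,1,0]
    wy := [1,0,1,2,0,1,2,0,2,0,1,2,2,0]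
    wc := [0,0,1,0,1,1,0,1,0,1,0,0,1,0,0,1,1,0,1,1,0,1,0,0,1,1,0,1,1,0,0,1,1,0,1]
    wd := [1,0,0,1,0,0,1,0,1,1,0,1,1,0,0,1,0,0,1,0,0,1,0,0,1]
    we := [0,1,0,1,0,1,0,1,1,0,1,1,0,0,1,0,1,0,1,1,0,1,1,0,0,1,1,0,0,1,1,0,0] },
  { p := 3, q := 5, r := 5
    wx := [2,1,0,1,2,0,0,2,2,0,2,1,2,2,2,1,0]
    wy := [1,0,0,2,0,1,0,0,0,2,0,1,2,0,2,2]
    wc := [1,0,1,1,0,0,1,1,1,0,0,1,0,1,0,1,1,0,1,0,1,0,1,1,1]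
    wd := [1,1,1,0,1,1,0,0,1,0,0,1,1,0,1,1,0,1,0,1,1,0,1,1,0,0]
    we := [1,0,0,1,0,1,1,0,1,0,1,1,0,1,0,1,1,0,1,1,0,1,1,0,1] },
  { p := 3, q := 5, r := 7
    wx := [2,2,2,0,2,2,0,2,1,0,0,0,2]
    wy := [1,1,1,0,2,1,0,2,0,2,0,0,0,2]
    wc := [0,1,1,0,1,1,0,1,1,0,1,0,1,1,1,0,1,1,0,1,0,0,1,0,0,1,0]
    wd := [0,1,1,0,0,1,1,1,1,0,1,1,0,1,1,0,0,1,1,0,1,0,1,1,1,0]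
    we := [0,1,1,0,1,1,0,1,0,1,0,1,1,0,1,0,0,1,0,0,1,0,0,1,1,1,1] },
  { p := 3, q := 5, r := 11
    wx := [1,0,0,0,2,1,0,2,0,2,1,1,0,1,1,0]
    wy := [1,2,0,0,2,2,0,2,0,0,2,0,1,2,0,1]
    wc := [0,1,1,1,0,0,1,1,0,1,1,1,0,1,1,0,0,1,0,1,0,1,1,0,1,0]
    wd := [1,0,0,1,0,0,1,1,1,0,1,0,1,1,1,1,0,1,1,1,0,0,1,1,1,1,0,0]
    we := [0,0,1,0,0,1,0,1,0,1,0,0,1,0,1,1,0,1,1,0,1] },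
  { p := 3, q := 5, r := 23
    wx := [2,2,2,0,1,2,0,2,1,0,2,2,2,0,0,2]
    wy := [1,2,2,2,1,2,0,2,1,2,0,2,2,1,0]
    wc := [0,1,0,1,0,1,0,0,1,1,1,0,1,1,1,1,0,1,0,1,0,0,1,0,1,0,1,1,1]
    wd := [1,0,1,1,1,1,0,1,1,1,0,0,1,1,1,0,1,0,1,0,0,1,0,1,1,0,1,0]
    we := [1,0,1,1,1,1,0,1,0,0,1,0,1,0,0,1,1,0,0,1,0,1,1,1,0] },
  { p := 3, q := 7, r := 7
    wx := [0,1,1,0,1,2,0,1,2,0,2,0,2,1,2,0]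
    wy := [1,1,2,1,0,0,2,2,1,0,2,1,0,1,0,1,0]
    wc := [0,1,1,1,1,1,0,0,1,0,1,0,1,1,1,0,0,1,1,0,1,1,1,0,0,1,0]
    wd := [0,1,1,0,1,0,1,0,1,0,1,1,1,0,0,1,0,1,1,0,1,0,1,1,0,0]
    we := [0,1,0,1,1,1,1,0,1,0,0,1,0,1,0,1,1,1,0,0,1,1,1,0,0,1,0,0] },
  { p := 3, q := 7, r := 11
    wx := [0,1,1,0,1,2,0,1,2,0,2,0,2,1,2,0]
    wy := [1,2,1,1,0,2,2,0,2,1,1,2,0,1]
    wc := [0,1,0,1,1,0,1,0,1,1,0,0,1,0,0,1,0,0,1,1,1,1,1,0,0,1]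
    wd := [1,1,1,0,0,1,1,1,0,0,1,0,0,1,0,0,1,0,1,1,1,1]
    we := [0,1,0,1,1,0,0,1,1,0,0,1,0,1,1,1,1,1,1,0,1,0,1] },
  { p := 3, q := 7, r := 23
    wx := [0,1,1,0,1,2,0,1,2,0,2,0,2,1,2,0]
    wy := [2,2,0,0,0,2,0,0,0,2,1,2,2,2,0,0]
    wc := [0,0,1,0,1,1,1,1,1,1,0,1,0,1,1,0,1,1,0,1,0,1,0,1,0,0,1,1]
    wd := [0,1,1,1,0,0,1,1,1,1,0,1,0,0,1,0,1,1,0,0,1,0,1,0]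
    we := [1,0,1,1,1,1,0,0,1,0,1,0,0,1,0,1,1,0,1,1,0,1,1] },
  { p := 3, q := 11, r := 11
    wx := [2,2,2,0,1,2,0,2,1,0,2,2,2,0,0,2]
    wy := [0,2,1,0,0,2,0,2,2,2,1,0,0]
    wc := [1,1,0,1,1,0,1,0,1,0,1,0,0,1,1,0,0,1,0,1,0,1,0]
    wd := [0,1,1,1,1,0,0,1,0,1,1,1,0,0,1,0,1,1,1,0,1,0,0,1,0]
    we := [0,1,1,0,1,1,0,0,1,1,1,1,1,1,0,1,1,0,0,1,1,1,1] },
  { p := 3, q := 11, r := 23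
    wx := [2,0,1,2,2,2,0,2,0,2,2,1,1,0]
    wy := [0,1,2,0,0,2,0,2,0,0,2,2,2,0,0,2,0]
    wc := [1,0,1,1,0,0,1,0,0,1,1,1,1,0,0,1,0,0,1,0,1,0,1,0,0,1]
    wd := [1,0,0,1,0,0,1,1,0,0,1,0,1,0,1,0,0,1,1,0,0,1,0,0,1]
    we := [0,0,1,0,0,1,1,1,0,1,0,1,0,1,1,1,1,1,1,1,0,0] },
  { p := 3, q := 23, r := 23
    wx := [0,1,1,0,1,2,0,1,2,0,2,0,2,1,2,0]
    wy := [0,0,2,0,2,2,0,1,1,0,2,2,0,0,2,2,1,0]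
    wc := [0,1,1,1,1,0,1,0,1,0,1,1,0,0,1,0,1,1,1,1,1,0,0,1,0]
    wd := [1,0,1,1,0,1,1,1,0,1,1,1,0,1,1,0,1,1,1,1,0,0,1,0,0,1]
    we := [1,1,1,1,1,0,1,1,1,1,0,1,0,1,0,0,1,0,0,1,0,1,1] },
  { p := 5, q := 5, r := 5
    wx := [0,0,0,2,0,1,1,2,1,2,0,1,2,2,2,0,1,0]
    wy := [1,0,2,0,0,2,2,0,2,0,2,2,0,0,2,1,0]
    wc := [0,0,0,1,0,0,0,1,1,0,0,0,0,1,0,1,0,1,1,0,0,0]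
    wd := [0,0,1,0,1,1,1,1,0,1,1,1,0,1,0,1,0,0,0,1,1,0]
    we := [1,0,1,1,0,1,1,1,0,0,0,0,1,0,1,0,1,0,0,0,1,1,0] },
  { p := 5, q := 5, r := 7
    wx := [0,2,0,0,2,0,1,2,0,0,2,2,1,0,1,2,1,0]
    wy := [0,0,2,0,2,1,0,1,0,0,2,2,0,0,0,2,2,0]
    wc := [1,0,1,1,0,0,0,1,1,0,0,1,0,1,0,1,1,1,0]
    wd := [1,1,1,0,0,1,1,1,1,0,0,0,1,1,1,0,1,1,1,1,0,0,1,0]
    we := [0,1,0,1,0,1,1,0,0,1,1,0,1,1,0,0,1,1,0,0,1,1] },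
  { p := 5, q := 5, r := 11
    wx := [0,0,0,2,0,1,1,2,1,2,0,1,2,2,2,0,1,0]
    wy := [0,2,1,2,0,2,2,2,0,1,2,2,2,0,2,2,0]
    wc := [0,1,1,0,0,0,0,1,1,0,1,0,0,0,1,1,1,0,1,1,0,1,0,1]
    wd := [1,1,0,1,0,1,0,0,1,0,0,1,0,0,1,1,0,1,1,1,1,0,0,1,1]
    we := [0,0,1,1,1,0,1,0,1,1,0,1,1,1,0,1,0,0,0,1,1,1,1,0,0] },
  { p := 5, q := 5, r := 23
    wx := [0,2,0,1,0,2,0,1,2,1,1,0,0]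
    wy := [0,1,0,1,2,1,2,0,2,0,1,1,0,1,1,1]
    wc := [0,1,1,0,1,0,1,1,0,1,0,0,0,1,1,0,0,1,1,0,1,1,1,1]
    wd := [0,0,1,0,0,1,1,1,0,0,1,1,1,1,0,1,0,1,1,0,0,0,1]
    we := [0,0,0,1,1,1,0,0,1,0,1,1,0,0,0,1,0,0,0,1,0,1,0,1] },
  { p := 5, q := 7, r := 7
    wx := [1,0,2,1,0,2,0,1,1,0,1,2,2,2,2,0]
    wy := [2,0,1,2,0,1,2,1,2,0,0,2,1,1,0,1,2]
    wc := [0,1,1,0,1,0,1,1,0,1,1,0,1,0,0,1,1,0,1,1,1,0,0,1]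
    wd := [0,1,1,0,1,1,1,0,0,0,1,0,1,1,0,0,1,1,1,1,0,0]
    we := [0,0,0,1,1,1,1,1,1,0,1,0,0,0,1,0,0,1,1,0,1,0,0] },
  { p := 5, q := 7, r := 11
    wx := [0,2,0,0,2,0,1,2,0,0,2,2,1,0,1,2,1,0]
    wy := [0,2,1,1,0,2,0,1,1,2,2,2,0,2,0,2,1,0]
    wc := [1,0,1,1,0,1,1,1,0,1,1,0,0,1,0,0,0,1,0,0,1]
    wd := [0,0,1,0,1,1,0,0,1,1,1,0,1,0,1,1,1,1,0,1,1,1,1,0]
    we := [0,0,0,1,0,1,0,0,0,1,1,1,0,1,1,0,0,1,0,1,0,0,0,0] },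
  { p := 5, q := 7, r := 23
    wx := [0,2,0,0,2,0,1,2,0,0,2,2,1,0,1,2,1,0]
    wy := [0,0,0,2,1,1,2,0,2,0,2,1,2,0,2,2,0,0]
    wc := [1,0,0,1,1,0,1,1,0,0,0,0,1,1,0,1,0,0,1,1,1]
    wd := [0,1,0,1,1,0,1,1,1,0,0,0,0,1,0,1,0,0,1,0,0,1,0,0]
    we := [0,0,1,1,0,1,1,1,0,1,0,1,1,0,0,0,0,1,0,1,1] },
  { p := 5, q := 11, r := 11
    wx := [0,2,0,1,0,2,0,1,2,1,1,0,0]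
    wy := [1,0,1,2,0,2,2,0,2,0,1,1,0,1,0]
    wc := [0,0,1,1,0,1,0,0,0,1,0,1,0,1,1,1,1,0,1,1,1,1,1]
    wd := [0,1,0,0,0,1,1,0,0,0,0,1,0,1,1,1,1,1]
    we := [1,1,0,1,0,1,0,0,1,1,0,1,1,1,0,0,1,0,0,0,1,1,1,0,1] },
  { p := 5, q := 11, r := 23
    wx := [0,1,0,2,0,2,0,1,2,0,1,1,2,0,1]
    wy := [1,0,0,2,2,0,0,2,1,2,0,2,1,0,2,2]
    wc := [0,1,1,0,0,1,1,1,0,0,0,1,0,1,1,1,1,1,0,0,0,1]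
    wd := [1,0,1,0,0,1,1,0,1,0,0,1,1,0,0,1,1,0,1,1]
    we := [1,0,1,1,0,1,0,1,1,1,1,0,0,0,0,1,1,1,1,0,1,1] },
  { p := 5, q := 23, r := 23
    wx := [2,1,0,0,2,1,1,2,0,2,0,1,2,0,0,0]
    wy := [2,1,2,0,0,2,0,2,2,0,2,2,2,1,1,2]
    wc := [0,0,0,1,1,0,1,0,1,1,0,0,1,0,1,0,0,1,1,1,0]
    wd := [1,1,1,1,0,1,1,1,1,1,0,0,1,1,0,1,1,0,1,0,0,0]
    we := [0,1,0,0,0,1,1,0,0,0,1,1,1,1,0,0,1,0,0,0,0] },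
  { p := 7, q := 7, r := 7
    wx := [1,0,0,0,2,1,1,1,0,1,2,0,2,0,2,1]
    wy := [2,1,0,1,2,0,2,0,2,1,1,1,0]
    wc := [0,0,0,0,0,1,1,1,0,0,0,1,0,0,0,1,0,0,0,0,0,1,0]
    wd := [1,0,0,1,1,0,1,0,1,1,1,1,1,0,1,0,1,0,0,1,0]
    we := [1,1,0,0,1,1,0,0,0,0,1,1,0,0,0,0,0,0,1,1,0,1,0,1] },
  { p := 7, q := 7, r := 11
    wx := [1,1,0,2,0,0,2,0,2,0,1,1,0,1,1,1,0]
    wy := [1,2,0,0,2,0,2,0,2,1,0,1,2,1,1,0,2]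
    wc := [0,0,0,1,1,0,0,1,1,0,1,0,0,1,0,1,1,1,0,1,1,0,1]
    wd := [0,1,1,0,0,0,1,0,0,1,1,1,0,1,0,1,1,0,0,0,1,0]
    we := [0,1,0,1,0,1,1,1,0,1,0,0,1,0,1,1,1,1,1,1,0,1,1,0] },
  { p := 7, q := 7, r := 23
    wx := [1,0,2,1,0,1,2,0,2,2,0,2,1,2,0,0,2,0]
    wy := [0,2,1,0,2,1,1,0,2,2,0,2,2,0,1,2,0,1,0]
    wc := [1,0,1,0,0,0,1,1,0,1,0,1,0,0,0,1]
    wd := [0,0,0,0,1,1,0,0,0,0,1,1,1,0,1,0,0,1,0,1,0,0,0]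
    we := [1,1,1,0,0,0,0,1,1,1,1,0,0,0,0,1,1,1,0,1,1,0,1,1] },
  { p := 7, q := 11, r := 11
    wx := [0,0,2,1,2,2,0,2,0,2,1,0,0,2,0,0,0,0]
    wy := [1,1,1,1,0,2,0,1,1,0,1,1,0,2,0]
    wc := [1,1,1,1,0,1,1,0,0,0,0,1,1,1,0,1,0,1,1,1,0,1,0,0]
    wd := [1,0,1,0,0,0,0,1,0,1,0,0,1,1,1,0,0,1,0,0,1,0,0]
    we := [1,1,1,0,1,1,0,0,1,0,1,0,1,0,0,0,0,0,1,1,1] },
  { p := 7, q := 11, r := 23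
    wx := [0,1,2,0,0,2,0,2,2,1,2,2,1,0,0,2]
    wy := [0,1,2,1,0,2,2,0,2,2,2,1,2,0,2,1]
    wc := [1,1,1,1,0,1,1,1,1,0,0,0,1,0,0,1,1,0,0,1,1,1]
    wd := [1,0,1,0,0,0,1,1,0,0,0,1,0,1,1,1,0,0,1,1,0,0,1,0]
    we := [1,0,0,0,0,1,1,1,0,0,0,1,1,0,1,1,1,1,1,1,1,0,1] },
  { p := 7, q := 23, r := 23
    wx := [2,1,2,0,2,0,1,0,1,2,0,2,0,1,0]
    wy := [0,2,2,2,2,0,0,0,2,2,2,0,2,0]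
    wc := [1,0,1,1,0,1,0,0,1,1,0,0,0,0,1,0,1,0,0,0,1,1,1]
    wd := [1,1,0,0,0,0,0,1,1,1,1,0,1,1,1,1,1,1,0,0,1,0,1,1]
    we := [0,1,1,0,1,1,1,0,1,0,1,1,0,0,0,0,0,1,1,1,1,0,0,0] },
  { p := 11, q := 11, r := 11
    wx := [0,0,2,1,1,1,0,2,0,1,0,0,0,2,1,0,1,0]
    wy := [1,2,0,1,2,1,0,2,0,0,2,0,1,1,0,1,2]
    wc := [0,1,1,1,0,0,1,0,1,0,0,0,0,0,0,1,0,1,0,0,1,0,0]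
    wd := [0,1,0,1,0,1,1,0,1,0,1,0,0,1,1,0,1,1,0,1,0,1,0,1]
    we := [0,1,1,0,1,1,0,1,1,0,0,0,1,1,1,0,1,0,0,0,0,1] },
  { p := 11, q := 11, r := 23
    wx := [0,2,2,1,0,0,2,2,1,0,1,2,0,0,2,0]
    wy := [2,2,2,0,2,2,1,1,2,0,2,0,2,0,1,1]
    wc := [0,0,0,0,0,0,1,1,0,1,0,1,1,0,1,0,0,1,1,1]
    wd := [1,0,0,0,1,1,0,0,1,1,1,1,0,0,1,0,1,0,1]
    we := [0,1,1,0,1,1,0,1,1,1,0,0,0,0,0,0,1,1,1,1,1,0,1] },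
  { p := 11, q := 23, r := 23
    wx := [1,2,2,2,1,2,0,2,1,0,0,0,2,0,2,2]
    wy := [1,1,0,2,2,2,1,2,0,2,2,0,1,0,2,0]
    wc := [1,1,1,0,0,1,1,1,0,1,1,1,1,1,1,1,1,0,0,1,1]
    wd := [0,0,1,0,1,1,0,1,1,0,0,0,1,0,1,1,0,0,0,1,1,1,1,1,0]
    we := [0,1,0,1,1,1,1,0,0,0,0,0,0,1,1,0,1,1,1,1,0,0,0] },
  { p := 23, q := 23, r := 23
    wx := [1,0,1,0,0,2,1,0,1,2,0,2,2,1,2]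
    wy := [2,2,2,0,1,2,0,0,2,0,1,2,0,0,0,0,0]
    wc := [1,1,1,1,0,0,1,1,1,1,0,1,0,1,0,0,1,1,1,1,1,1]
    wd := [0,1,0,1,0,0,1,1,0,1,0,1,1,0,1,0,0,0,0,0,1,1,0,0]
    we := [1,1,0,0,1,1,0,1,0,0,1,0,0,0,0,1,1,0,1,1,1,0,0] }
]

end Cfsg.Agent.M23Triples
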